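import Groth.Agent.CplFib6.CplFinite
import Mathlib.RingTheory.Filtration
import Mathlib.RingTheory.DedekindDomain.IntegralClosure

/-!
# Completion of a local ring of a finite algebra: generation over the completion of the base
-/

set_option autoImplicit false

namespace Groth.Agent.H1CplFin

universe u

open IsLocalRing TensorProduct

theorem isNoetherianRing_of_atPrime (R : Type u) {C A : Type u} [CommRing R] [CommRing C] [CommRing A]
    [IsNoetherianRing R] [Algebra R C] [Module.Finite R C] [Algebra C A] (N : Submonoid C) [IsLocalization N A] :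
    IsNoetherianRing A := by
  haveI : IsNoetherianRing C := IsNoetherianRing.of_finite R C
  exact IsLocalization.isNoetherianRing N A inferInstance

variable {R C A : Type u} [CommRing R] [CommRing C] [CommRing A] [IsLocalRing R] [IsNoetherianRing R]
  [IsLocalRing A] [Algebra R C] [Module.Finite R C] [Algebra R A] [Algebra C A] [IsScalarTower R C A]
  [IsLocalHom (algebraMap R A)]

omit [IsNoetherianRing R] in
theorem map_le_cpl [IsNoetherianRing A] [IsLocalRing (EGA4.Cpl A)] :
    (maximalIdeal R).map (algebraMap R (EGA4.Cpl A)) ≤ maximalIdeal (EGA4.Cpl A) := by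
  rw [IsScalarTower.algebraMap_eq R A (EGA4.Cpl A), ← Ideal.map_map,
    AdicCompletion.maximalIdeal_eq_map_of_fg (IsNoetherian.noetherian _)]
  exact Ideal.map_mono (((local_hom_TFAE (algebraMap R A)).out 0 2).mp (by infer_instance))

/-- `C` is dense in the completion of `A` modulo the maximal ideal of `R`. -/
theorem exists_dense (N : Submonoid C) [IsLocalization N A] : ∀ d : EGA4.Cpl A, ∃ c : C,
    d - algebraMap C (EGA4.Cpl A) c ∈ (maximalIdeal R).map (algebraMap R (EGA4.Cpl A)) := by
  haveI := isNoetherianRing_of_atPrime R (C := C) (A := A) N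
  intro d
  have hJ : ∃ k, maximalIdeal A ^ k ≤ (maximalIdeal R).map (algebraMap R A) := by
    refine Ideal.exists_pow_le_of_le_radical_of_fg ?_ (IsNoetherian.noetherian _)
    rw [Ideal.radical_eq_sInf, le_sInf_iff]
    rintro q ⟨hq, hqp⟩
    haveI := hqp
    haveI : Algebra.IsIntegral R C := Algebra.IsIntegral.of_finite R C
    let Q := q.comap (algebraMap C A)
    haveI : Q.IsMaximal := by
      refine Ideal.isMaximal_of_isIntegral_of_isMaximal_comap (R := R) Q ?_
      have : Q.comap (algebraMap R C) = maximalIdeal R := by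
        refine le_antisymm (le_maximalIdeal (Ideal.IsPrime.comap _).ne_top) ?_
        rw [Ideal.comap_comap, ← IsScalarTower.algebraMap_eq]
        exact Ideal.map_le_iff_le_comap.1 hq
      rw [this]
      exact maximalIdeal.isMaximal R
    have hqA : q ≤ maximalIdeal A := le_maximalIdeal hqp.ne_top
    have : Q = (maximalIdeal A).comap (algebraMap C A) :=
      Ideal.IsMaximal.eq_of_le inferInstance (Ideal.IsPrime.comap _).ne_top (Ideal.comap_mono hqA)
    rw [← IsLocalization.map_comap N A q, show Ideal.under C q = Q from rfl, this]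
    exact (IsLocalization.map_comap N A _).ge
  obtain ⟨k, hk⟩ := hJ
  obtain ⟨a, ha⟩ := CplFib6.exists_sub_mem_pow A k d
  obtain ⟨c, hc⟩ := CplFib6.exists_dense_atPrime (A := R) (B := C) N a
  refine ⟨c, ?_⟩
  have h1 := (Ideal.map_mono hk : _ ≤ Ideal.map (algebraMap A (EGA4.Cpl A)) _) ha
  have h2 := Ideal.mem_map_of_mem (algebraMap A (EGA4.Cpl A)) hc
  rw [Ideal.map_map, ← IsScalarTower.algebraMap_eq] at h1 h2
  rw [map_sub] at h2
  rw [IsScalarTower.algebraMap_apply C A (EGA4.Cpl A)]
  convert add_mem h1 h2 using 1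
  abel

/-- Ring maps out of the completion are determined on `R`. -/
theorem cplHom_unique [IsNoetherianRing A] (g g' : EGA4.Cpl R →+* EGA4.Cpl A)
    (hg : ∀ r, g (algebraMap R (EGA4.Cpl R) r) = algebraMap A (EGA4.Cpl A) (algebraMap R A r))
    (hg' : ∀ r, g' (algebraMap R (EGA4.Cpl R) r) = algebraMap A (EGA4.Cpl A) (algebraMap R A r)) : g = g' := by
  haveI := FlatLoc6.isLocalRing_cpl A
  haveI := FlatLoc6.isNoetherianRing_cpl A
  refine RingHom.ext fun x => sub_eq_zero.1 ?_
  have hbot : ⨅ n : ℕ, maximalIdeal (EGA4.Cpl A) ^ n = ⊥ :=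
    Ideal.iInf_pow_eq_bot_of_isLocalRing _ (maximalIdeal.isMaximal _).ne_top
  rw [← Submodule.mem_bot (R := EGA4.Cpl A), ← hbot, Submodule.mem_iInf]
  intro n
  obtain ⟨a, ha⟩ := CplFib6.exists_sub_mem_pow R n x
  have key : ∀ f : EGA4.Cpl R →+* EGA4.Cpl A,
      (∀ r, f (algebraMap R (EGA4.Cpl R) r) = algebraMap A (EGA4.Cpl A) (algebraMap R A r)) →
      f x - algebraMap A (EGA4.Cpl A) (algebraMap R A a) ∈ maximalIdeal (EGA4.Cpl A) ^ n := fun f hf => by
    rw [← hf, ← map_sub]
    have h1 := Ideal.mem_map_of_mem f ha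
    rw [Ideal.map_map, Ideal.map_pow] at h1
    refine Ideal.pow_right_mono ?_ n h1
    rw [show f.comp (algebraMap R (EGA4.Cpl R)) = algebraMap R (EGA4.Cpl A) from RingHom.ext fun r => by
      rw [RingHom.comp_apply, hf, ← IsScalarTower.algebraMap_apply]]
    exact map_le_cpl
  convert sub_mem (key g hg) (key g' hg') using 1
  abel

/-- The completion of `A` is spanned over the completion of `R` by the image of `C`. -/
theorem exists_span (N : Submonoid C) [IsLocalization N A] (g : EGA4.Cpl R →+* EGA4.Cpl A)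
    (hg : ∀ r, g (algebraMap R (EGA4.Cpl R) r) = algebraMap A (EGA4.Cpl A) (algebraMap R A r)) (x : EGA4.Cpl A) :
    ∃ (n : ℕ) (r : Fin n → EGA4.Cpl R) (c : Fin n → C),
      x = ∑ i, g (r i) * algebraMap A (EGA4.Cpl A) (algebraMap C A (c i)) := by
  classical
  haveI := isNoetherianRing_of_atPrime R (C := C) (A := A) N
  haveI := FlatLoc6.isLocalRing_cpl A
  haveI := FlatLoc6.isNoetherianRing_cpl A
  haveI := FlatLoc6.faithfullyFlat_cpl A
  haveI : Module.Flat C A := IsLocalization.flat A N
  haveI : Module.Flat C (EGA4.Cpl A) := Module.Flat.trans C A (EGA4.Cpl A)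
  letI : Algebra (EGA4.Cpl R) (EGA4.Cpl A) := g.toAlgebra
  haveI : IsScalarTower R (EGA4.Cpl R) (EGA4.Cpl A) := IsScalarTower.of_algebraMap_eq fun r => by
    rw [IsScalarTower.algebraMap_apply R A (EGA4.Cpl A)]
    exact (hg r).symm
  have hle := map_le_cpl (R := R) (A := A)
  have hdense := exists_dense (R := R) (A := A) N
  obtain ⟨_, _, hsurj, -⟩ := CplFib6.exists_flat_surjective R C (EGA4.Cpl A) hle hdense
  -- the span of the image is everything
  let M : Submodule (EGA4.Cpl R) (EGA4.Cpl A) :=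
    Submodule.span (EGA4.Cpl R) (Set.range (algebraMap C (EGA4.Cpl A)))
  have hM : ⊤ ≤ M := by
    haveI := FlatLoc6.isLocalRing_cpl R
    haveI := FlatLoc6.isNoetherianRing_cpl R
    haveI := CplFib6.isAdicComplete_cpl R
    have hmax : maximalIdeal (EGA4.Cpl R) = (maximalIdeal R).map (algebraMap R (EGA4.Cpl R)) :=
      AdicCompletion.maximalIdeal_eq_map_of_fg (IsNoetherian.noetherian _)
    have ha : (maximalIdeal (EGA4.Cpl R)).map (algebraMap (EGA4.Cpl R) (EGA4.Cpl A)) =
        (maximalIdeal R).map (algebraMap R (EGA4.Cpl A)) := by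
      rw [hmax, Ideal.map_map, ← IsScalarTower.algebraMap_eq]
    obtain ⟨s, hs⟩ := (Module.Finite.fg_top : (⊤ : Submodule R C).FG)
    have hfin : Module.Finite (EGA4.Cpl R) (EGA4.Cpl A ⧸ (maximalIdeal (EGA4.Cpl R)).map
        (algebraMap (EGA4.Cpl R) (EGA4.Cpl A))) := by
      haveI : Module.Finite R (EGA4.Cpl A ⧸ (maximalIdeal (EGA4.Cpl R)).map
          (algebraMap (EGA4.Cpl R) (EGA4.Cpl A))) :=
        Module.Finite.of_surjective
          ((Ideal.Quotient.mkₐ R _).toLinearMap ∘ₗ (IsScalarTower.toAlgHom R C (EGA4.Cpl A)).toLinearMap) fun y => by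
          obtain ⟨d, rfl⟩ := Ideal.Quotient.mk_surjective y
          obtain ⟨b, hb⟩ := hdense d
          refine ⟨b, (Ideal.Quotient.eq.mpr ?_).symm⟩
          rw [ha]
          exact hb
      exact Module.Finite.of_restrictScalars_finite R _ _
    haveI : Module.Finite (EGA4.Cpl R) (EGA4.Cpl A) := RingHom.finite_algebraMap.1
      (CohenLib.finite_of_complete (algebraMap (EGA4.Cpl R) (EGA4.Cpl A)) (maximalIdeal _) (ha.le.trans hle)
        (RingHom.finite_algebraMap.2 hfin))
    refine Submodule.le_of_le_smul_of_le_jacobson_bot Module.Finite.fg_top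
      (maximalIdeal_le_jacobson (⊥ : Ideal (EGA4.Cpl R))) fun d _ => ?_
    obtain ⟨b, hb⟩ := hdense d
    refine Submodule.mem_sup.mpr ⟨_, Submodule.subset_span ⟨b, rfl⟩, d - algebraMap C (EGA4.Cpl A) b, ?_,
      add_sub_cancel _ _⟩
    rw [Ideal.smul_top_eq_map, Submodule.restrictScalars_mem, ha]
    exact hb
  obtain ⟨t, ht⟩ := Submodule.mem_span_iff_exists_finset_subset.1 (hM (Submodule.mem_top : x ∈ ⊤))
  obtain ⟨S, hS, -, hsum⟩ := ht
  choose c hc using fun i : S => hS i.2
  refine ⟨S.card, fun i => t (S.equivFin.symm i).1, fun i => c (S.equivFin.symm i), ?_⟩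
  rw [← hsum, ← Finset.sum_coe_sort, ← Equiv.sum_comp S.equivFin.symm]
  refine Finset.sum_congr rfl fun i _ => ?_
  rw [← IsScalarTower.algebraMap_apply C A (EGA4.Cpl A), hc, Algebra.smul_def]
  rfl

/-- If `C` is contained, up to denominators from `R`, in the algebra generated by `S` and `T`, the
completion of `A` consists of fractions of the algebra generated by the completions of `S` and `T`. -/
theorem exists_frac_adjoin (N : Submonoid C) [IsLocalization N A] [IsDomain A]
    (hRA : Function.Injective (algebraMap R A))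
    (S T : Type u) [CommRing S] [CommRing T] [IsLocalRing S] [IsLocalRing T]
    [Algebra R T] [IsLocalHom (algebraMap R T)] [Algebra S A] [Algebra T A] [IsScalarTower R T A]
    [Algebra (EGA4.Cpl S) (EGA4.Cpl A)] [Algebra (EGA4.Cpl T) (EGA4.Cpl A)]
    (hcS : ∀ s : S, algebraMap (EGA4.Cpl S) (EGA4.Cpl A) (algebraMap S (EGA4.Cpl S) s) =
      algebraMap A (EGA4.Cpl A) (algebraMap S A s))
    (hcT : ∀ t : T, algebraMap (EGA4.Cpl T) (EGA4.Cpl A) (algebraMap T (EGA4.Cpl T) t) =
      algebraMap A (EGA4.Cpl A) (algebraMap T A t))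
    (hgen : ∀ c : C, ∃ r : R, r ≠ 0 ∧ algebraMap R A r * algebraMap C A c ∈
      Algebra.adjoin R (Set.range (algebraMap S A) ∪ Set.range (algebraMap T A)))
    (x : EGA4.Cpl A) :
    ∃ a b : EGA4.Cpl A,
      a ∈ Algebra.adjoin (EGA4.Cpl S) (Set.range (algebraMap (EGA4.Cpl T) (EGA4.Cpl A))) ∧
      b ∈ Algebra.adjoin (EGA4.Cpl S) (Set.range (algebraMap (EGA4.Cpl T) (EGA4.Cpl A))) ∧
      b ≠ 0 ∧ x * b = a := by
  classical
  haveI := isNoetherianRing_of_atPrime R (C := C) (A := A) N
  obtain ⟨_, _⟩ := CplFib6.exists_cplMap R T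
  let g : EGA4.Cpl R →+* EGA4.Cpl A := (algebraMap (EGA4.Cpl T) (EGA4.Cpl A)).comp (algebraMap _ (EGA4.Cpl T))
  obtain ⟨n, r, c, hx⟩ := exists_span N g (fun r => by
    show algebraMap (EGA4.Cpl T) (EGA4.Cpl A) _ = _
    rw [← IsScalarTower.algebraMap_apply R (EGA4.Cpl R) (EGA4.Cpl T),
      IsScalarTower.algebraMap_apply R T (EGA4.Cpl T), hcT, ← IsScalarTower.algebraMap_apply R T A]) x
  let Adj := Algebra.adjoin (EGA4.Cpl S) (Set.range (algebraMap (EGA4.Cpl T) (EGA4.Cpl A)))
  have hR : ∀ s : R, algebraMap A (EGA4.Cpl A) (algebraMap R A s) ∈ Adj := fun s => by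
    rw [IsScalarTower.algebraMap_apply R T A, ← hcT]
    exact Algebra.subset_adjoin ⟨_, rfl⟩
  have hmem : ∀ y ∈ Algebra.adjoin R (Set.range (algebraMap S A) ∪ Set.range (algebraMap T A)),
      algebraMap A (EGA4.Cpl A) y ∈ Adj := by
    intro y hy
    induction hy using Algebra.adjoin_induction with
    | mem y hy =>
      rcases hy with ⟨s, rfl⟩ | ⟨t, rfl⟩
      · rw [← hcS]; exact Subalgebra.algebraMap_mem _ _
      · rw [← hcT]; exact Algebra.subset_adjoin ⟨_, rfl⟩
    | algebraMap s => exact hR s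
    | add y z _ _ hy hz => rw [map_add]; exact add_mem hy hz
    | mul y z _ _ hy hz => rw [map_mul]; exact mul_mem hy hz
  choose d hd0 hd using fun i => hgen (c i)
  let D : R := ∏ i, d i
  haveI : IsDomain R := Function.Injective.isDomain _ hRA
  refine ⟨x * algebraMap A (EGA4.Cpl A) (algebraMap R A D), algebraMap A (EGA4.Cpl A) (algebraMap R A D), ?_,
    hR D, fun h => ?_, rfl⟩
  · rw [hx, Finset.sum_mul]
    refine Subalgebra.sum_mem _ fun i _ => ?_
    rw [mul_assoc, show D = (∏ j ∈ Finset.univ.erase i, d j) * d i from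
      (Finset.prod_erase_mul _ _ (Finset.mem_univ i)).symm, map_mul, ← map_mul, ← mul_assoc,
      mul_comm (algebraMap C A (c i)), mul_assoc, mul_comm (algebraMap C A (c i)) _, map_mul]
    exact mul_mem (Algebra.subset_adjoin ⟨algebraMap _ (EGA4.Cpl T) (r i), rfl⟩) (mul_mem (hR _) (hmem _ (hd i)))
  · haveI := FlatLoc6.faithfullyFlat_cpl A
    have h2 : algebraMap R A D = 0 := FaithfulSMul.algebraMap_injective A (EGA4.Cpl A) (by rw [h, map_zero])
    exact Finset.prod_ne_zero_iff.2 (fun i _ => hd0 i) (hRA (by rw [h2, map_zero]))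

end Groth.Agent.H1CplFin
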