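import Groth.Agent.H1CplFin.Basic
import Mathlib.RingTheory.Flat.EquationalCriterion
import Mathlib.RingTheory.Ideal.IdempotentFG
import Mathlib.GroupTheory.Coset.Basic

/-!
# Invariants of the decomposition group in a completion
-/

set_option autoImplicit false

namespace Groth.Agent.H1CplFin

universe u

open IsLocalRing TensorProduct

/-- The kernel of a flat quotient is idempotent. -/
theorem le_sq_of_flat_surjective {B S : Type u} [CommRing B] [CommRing S] [Algebra B S] [Module.Flat B S]
    (h : Function.Surjective (algebraMap B S)) :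
    RingHom.ker (algebraMap B S) ≤ RingHom.ker (algebraMap B S) * RingHom.ker (algebraMap B S) := by
  intro z hz
  obtain ⟨k, a, y, hy, ha⟩ := Module.Flat.isTrivialRelation_of_sum_smul_eq_zero (R := B) (M := S)
    (ι := Fin 1) (f := fun _ => z) (x := fun _ => 1) (by
      simp only [Finset.univ_unique, Finset.sum_singleton, Algebra.smul_def, mul_one]
      exact hz)
  choose b hb using fun j => h (y j)
  let u := ∑ j, a 0 j * b j
  have h1 : z * u = 0 := by
    rw [Finset.mul_sum]
    refine Finset.sum_eq_zero fun j _ => ?_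
    have := ha j
    rw [Fin.sum_univ_one] at this
    rw [← mul_assoc, this, zero_mul]
  have h2 : algebraMap B S u = 1 := by
    rw [show (1 : S) = _ from hy 0, map_sum]
    exact Finset.sum_congr rfl fun j _ => by rw [map_mul, hb, Algebra.smul_def]
  have h3 : (1 - u) ∈ RingHom.ker (algebraMap B S) := by rw [RingHom.mem_ker, map_sub, h2, map_one, sub_self]
  have := Ideal.mul_mem_mul hz h3
  rwa [mul_sub, mul_one, h1, sub_zero] at this

variable {R C A : Type u} [CommRing R] [CommRing C] [CommRing A] [IsLocalRing R] [IsNoetherianRing R]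
  [IsLocalRing A] [Algebra R C] [Module.Finite R C] [Algebra R A] [Algebra C A] [IsScalarTower R C A]
  [IsLocalHom (algebraMap R A)]

attribute [local instance] Fintype.ofFinite in
/-- The invariants of the stabilizer of a maximal ideal in the completion there come from the base. -/
theorem exists_of_invariant {G : Type u} [Group G] [Finite G] (σ : G →* (C ≃ₐ[R] C))
    (hinv : ∀ c : C, (∀ g, σ g c = c) → ∃ r, algebraMap R C r = c)
    (𝔫 : Ideal C) [𝔫.IsMaximal] [IsLocalization.AtPrime A 𝔫]
    (H : Subgroup G) (hH : ∀ g, g ∈ H ↔ 𝔫.comap (σ g) = 𝔫)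
    (τ : H → (EGA4.Cpl A →+* EGA4.Cpl A))
    (hτ : ∀ (g : H) (c : C), τ g (algebraMap A (EGA4.Cpl A) (algebraMap C A c)) =
      algebraMap A (EGA4.Cpl A) (algebraMap C A (σ g c)))
    (g₀ : EGA4.Cpl R →+* EGA4.Cpl A)
    (hg₀ : ∀ r, g₀ (algebraMap R (EGA4.Cpl R) r) = algebraMap A (EGA4.Cpl A) (algebraMap R A r))
    (x : EGA4.Cpl A) (hx : ∀ g, τ g x = x) :
    ∃ y, g₀ y = x := by
  classical
  haveI := isNoetherianRing_of_atPrime R (C := C) (A := A) 𝔫.primeCompl
  haveI := FlatLoc6.isLocalRing_cpl A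
  haveI := FlatLoc6.isNoetherianRing_cpl A
  haveI := FlatLoc6.faithfullyFlat_cpl A
  haveI := FlatLoc6.faithfullyFlat_cpl R
  haveI := FlatLoc6.isNoetherianRing_cpl R
  haveI : Module.Flat C A := IsLocalization.flat A 𝔫.primeCompl
  haveI : Module.Flat C (EGA4.Cpl A) := Module.Flat.trans C A (EGA4.Cpl A)
  letI : Algebra (EGA4.Cpl R) (EGA4.Cpl A) := g₀.toAlgebra
  haveI : IsScalarTower R (EGA4.Cpl R) (EGA4.Cpl A) := IsScalarTower.of_algebraMap_eq fun r => by
    rw [IsScalarTower.algebraMap_apply R A (EGA4.Cpl A)]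
    exact (hg₀ r).symm
  obtain ⟨_, _, hsurj, _⟩ := CplFib6.exists_flat_surjective R C (EGA4.Cpl A) map_le_cpl
    (exists_dense 𝔫.primeCompl)
  let B := C ⊗[R] EGA4.Cpl R
  let π : B →+* EGA4.Cpl A := algebraMap B (EGA4.Cpl A)
  have hπC : ∀ c : C, π (c ⊗ₜ[R] 1) = algebraMap A (EGA4.Cpl A) (algebraMap C A c) := fun c => by
    rw [← IsScalarTower.algebraMap_apply C A (EGA4.Cpl A)]
    exact (IsScalarTower.algebraMap_apply C B (EGA4.Cpl A) c).symm
  have huniq : ∀ f : EGA4.Cpl R →+* EGA4.Cpl A,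
      (∀ r, f (algebraMap R (EGA4.Cpl R) r) = algebraMap A (EGA4.Cpl A) (algebraMap R A r)) → ∀ w, f w = g₀ w :=
    fun f hf w => RingHom.congr_fun (cplHom_unique f g₀ hf hg₀) w
  have hπR : ∀ w, π ((1 : C) ⊗ₜ[R] w) = g₀ w :=
    huniq (π.comp Algebra.TensorProduct.includeRight.toRingHom) fun r => by
      show π (Algebra.TensorProduct.includeRight (algebraMap R (EGA4.Cpl R) r)) = _
      rw [AlgHom.commutes, IsScalarTower.algebraMap_apply R C B, IsScalarTower.algebraMap_apply R C A]
      exact hπC _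
  let s : G → (B →ₐ[R] B) := fun g => Algebra.TensorProduct.map (σ g).toAlgHom (AlgHom.id R (EGA4.Cpl R))
  have hs_mul : ∀ g g' b, s (g * g') b = s g (s g' b) := fun g g' b => by
    induction b using TensorProduct.induction_on with
    | zero => simp
    | tmul c w =>
      show σ (g * g') c ⊗ₜ[R] w = σ g (σ g' c) ⊗ₜ[R] w
      rw [map_mul]
      rfl
    | add a b ha hb => simp only [map_add, ha, hb]
  have hs_one : ∀ b, s 1 b = b := fun b => by
    induction b using TensorProduct.induction_on with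
    | zero => simp
    | tmul c w =>
      show σ 1 c ⊗ₜ[R] w = _
      rw [map_one]
      rfl
    | add a b ha hb => simp only [map_add, ha, hb]
  have hτR : ∀ (g : H) w, τ g (g₀ w) = g₀ w := fun g => huniq ((τ g).comp g₀) fun r => by
    rw [RingHom.comp_apply, hg₀, IsScalarTower.algebraMap_apply R C A, hτ, AlgEquiv.commutes]
  have hequiv : ∀ (g : H) b, π (s g b) = τ g (π b) := fun g b => by
    induction b using TensorProduct.induction_on with
    | zero => simp
    | add a b ha hb => simp only [map_add, ha, hb]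
    | tmul c w =>
      have h1 : ∀ d : C, d ⊗ₜ[R] w = d ⊗ₜ[R] (1 : EGA4.Cpl R) * (1 : C) ⊗ₜ[R] w := fun d => by
        rw [Algebra.TensorProduct.tmul_mul_tmul, mul_one, one_mul]
      show π (σ g c ⊗ₜ[R] w) = _
      rw [h1, h1 c, map_mul, map_mul, map_mul, hπC, hπC, hπR, hτ, hτR]
  -- the idempotent
  haveI : IsNoetherianRing B := by
    haveI : IsNoetherianRing (EGA4.Cpl R ⊗[R] C) := IsNoetherianRing.of_finite (EGA4.Cpl R) _
    exact isNoetherianRing_of_ringEquiv _ (Algebra.TensorProduct.comm R (EGA4.Cpl R) C).toRingEquiv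
  obtain ⟨e', he', hJ⟩ := (Ideal.isIdempotentElem_iff_of_fg (RingHom.ker π) (IsNoetherian.noetherian _)).1
    (le_antisymm Ideal.mul_le_right (le_sq_of_flat_surjective hsurj))
  have hJ' : ∀ z, π z = 0 ↔ z * (1 - e') = 0 := fun z => by
    rw [← RingHom.mem_ker, hJ, Submodule.mem_span_singleton]
    refine ⟨?_, fun h => ⟨z, ?_⟩⟩
    · rintro ⟨a, rfl⟩
      rw [smul_eq_mul, mul_assoc, mul_sub, mul_one, he'.eq, sub_self, mul_zero]
    · rw [mul_sub, mul_one, sub_eq_zero] at h
      rw [smul_eq_mul, ← h]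
  let e : B := 1 - e'
  have hee : IsIdempotentElem e := he'.one_sub
  have hπe : π e = 1 := by
    have : π e' = 0 := (hJ' e').2 (by rw [mul_sub, mul_one, he'.eq, sub_self])
    simp [e, this]
  -- residues
  let χ : B →+* ResidueField (EGA4.Cpl A) := (residue _).comp π
  have hloc : ∀ c, χ (c ⊗ₜ[R] 1) = 0 ↔ c ∈ 𝔫 := fun c => by
    show residue _ (π _) = 0 ↔ _
    rw [residue_eq_zero_iff, hπC, AdicCompletion.maximalIdeal_eq_map_of_fg (IsNoetherian.noetherian _),
      ← Ideal.mem_comap, Ideal.comap_map_eq_self_of_faithfullyFlat,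
      IsLocalization.AtPrime.to_map_mem_maximal_iff A 𝔫]
  have hout : ∀ g, g ∉ H → χ (s g e) = 0 := fun g hg => by
    by_contra hne
    refine hg ((hH g).2 ?_)
    have h1 : χ (s g e) = 1 := by
      rcases IsIdempotentElem.iff_eq_zero_or_one.1 ((hee.map (s g)).map χ) with h | h
      · exact absurd h hne
      · exact h
    refine Ideal.IsMaximal.eq_of_le
      (Ideal.comap_isMaximal_of_equiv (σ g)) (Ideal.IsMaximal.ne_top ‹_›) fun c hc => ?_
    by_contra hcn
    obtain ⟨w, hw⟩ := hsurj (((IsLocalization.map_units A (⟨c, hcn⟩ : 𝔫.primeCompl)).map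
      (algebraMap A (EGA4.Cpl A))).unit⁻¹ : (EGA4.Cpl A)ˣ)
    have h2 : (c ⊗ₜ[R] (1 : EGA4.Cpl R) * w - 1) * e = 0 := (hJ' _).1 (by
      rw [map_sub, map_mul, map_one, hπC, show π w = _ from hw, IsUnit.mul_val_inv, sub_self])
    have h3 := congrArg (fun z => χ (s g z)) h2
    simp only [map_mul, map_sub, map_one, map_zero, h1, mul_one] at h3
    rw [show s g (c ⊗ₜ[R] (1 : EGA4.Cpl R)) = σ g c ⊗ₜ[R] 1 from rfl, (hloc _).2 hc, zero_mul, zero_sub,
      neg_eq_zero] at h3
    exact one_ne_zero h3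
  have hout' : ∀ g, g ∉ H → π (s g e) = 0 := fun g hg => by
    have hu : IsUnit (1 - π (s g e)) :=
      IsLocalRing.isUnit_one_sub_self_of_mem_nonunits _ ((residue_eq_zero_iff _).1 (hout g hg))
    refine hu.mul_left_eq_zero.1 ?_
    rw [mul_sub, mul_one, ((hee.map (s g)).map π).eq, sub_self]
  obtain ⟨x₀, hx₀⟩ := hsurj x
  let b0 : B := x₀ * e
  have hb0 : π b0 = x := by rw [map_mul, hπe, mul_one]; exact hx₀
  have hfix : ∀ g : H, s g b0 = b0 := fun g => by
    have key : ∀ k : H, s k e * e = e := fun k => by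
      have : (s k e - 1) * e = 0 := (hJ' _).1 (by rw [map_sub, hequiv, hπe, map_one, map_one, sub_self])
      rwa [sub_mul, one_mul, sub_eq_zero] at this
    have he1 : s g e = e := by
      have h1 := congrArg (s g) (key g⁻¹)
      rw [map_mul, ← hs_mul, ← Subgroup.coe_mul, mul_inv_cancel, Subgroup.coe_one, hs_one, mul_comm] at h1
      exact h1.symm.trans (key g)
    have h2 : π (s g b0 - b0) = 0 := by rw [map_sub, hequiv, hb0, hx, sub_self]
    have h3 : (s g b0 - b0) * e = 0 := (hJ' _).1 h2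
    rw [sub_mul, sub_eq_zero] at h3
    have h4 : s g b0 * e = s g b0 := by
      show s g (x₀ * e) * e = s g (x₀ * e)
      rw [map_mul, he1, mul_assoc, hee.eq]
    rw [← h4, h3]
    show x₀ * e * e = x₀ * e
    rw [mul_assoc, hee.eq]
  let b : B := ∑ q : G ⧸ H, s q.out b0
  have hbinv : ∀ g, s g b = b := fun g => by
    show s g (∑ q : G ⧸ H, s q.out b0) = _
    rw [map_sum]
    refine Fintype.sum_equiv (MulAction.toPerm g) _ _ fun q => ?_
    show s g (s q.out b0) = s (g • q).out b0
    obtain ⟨k, hk⟩ := QuotientGroup.mk_out_eq_mul H (g * q.out)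
    have hq : g • q = (QuotientGroup.mk (g * q.out) : G ⧸ H) := by
      conv_lhs => rw [← QuotientGroup.out_eq' q]
      rfl
    rw [hq, hk, hs_mul, hfix k, hs_mul]
  have hπb : π b = x := by
    show π (∑ q : G ⧸ H, s q.out b0) = x
    rw [map_sum, Finset.sum_eq_single (QuotientGroup.mk (1 : G))]
    · obtain ⟨k, hk⟩ := QuotientGroup.mk_out_eq_mul H (1 : G)
      rw [hk, one_mul, hfix k, hb0]
    · intro q _ hq
      have : q.out ∉ H := fun h => hq (by
        rw [← QuotientGroup.out_eq' q]
        exact (QuotientGroup.eq.2 (by simpa using H.inv_mem h)))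
      show π (s q.out (x₀ * e)) = 0
      rw [map_mul, map_mul, hout' _ this, mul_zero]
    · intro h; exact absurd (Finset.mem_univ _) h
  -- invariants of the base change
  let δ : C →ₗ[R] (G → C) := LinearMap.pi fun g => (σ g).toLinearMap - LinearMap.id
  have hex : Function.Exact (Algebra.linearMap R C) δ := fun c => by
    refine ⟨fun h => ?_, ?_⟩
    · exact hinv c fun g => sub_eq_zero.1 (congrFun h g)
    · rintro ⟨r, rfl⟩
      funext g
      simp [δ]
  have hex' := Module.Flat.rTensor_exact (EGA4.Cpl R) hex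
  have hδ : (δ.rTensor (EGA4.Cpl R)) b = 0 := by
    refine (TensorProduct.piLeft R (EGA4.Cpl R) (fun _ : G => C)).injective ?_
    rw [map_zero]
    funext g
    have : ∀ z : B, TensorProduct.piLeft R (EGA4.Cpl R) (fun _ : G => C) (δ.rTensor (EGA4.Cpl R) z) g = s g z - z :=
      fun z => by
        induction z using TensorProduct.induction_on with
        | zero => simp
        | tmul c w =>
          show (σ g c - c) ⊗ₜ[R] w = σ g c ⊗ₜ[R] w - c ⊗ₜ[R] w
          rw [sub_tmul]
        | add a b ha hb => rw [map_add, map_add, Pi.add_apply, ha, hb, map_add]; abel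
    rw [this, hbinv, sub_self, Pi.zero_apply]
  obtain ⟨w, hw⟩ := (hex' b).1 hδ
  refine ⟨TensorProduct.lid R (EGA4.Cpl R) w, ?_⟩
  have key : ∀ w : R ⊗[R] EGA4.Cpl R,
      (1 : C) ⊗ₜ[R] TensorProduct.lid R (EGA4.Cpl R) w = (Algebra.linearMap R C).rTensor (EGA4.Cpl R) w := fun w => by
    induction w using TensorProduct.induction_on with
    | zero => simp
    | tmul r w =>
      simp only [TensorProduct.lid_tmul, LinearMap.rTensor_tmul, Algebra.linearMap_apply]
      rw [Algebra.algebraMap_eq_smul_one, smul_tmul]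
    | add a b ha hb => simp only [map_add, tmul_add, ha, hb]
  rw [← hπb, ← hw, ← hπR, key]

end Groth.Agent.H1CplFin
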