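import Groth.Agent.H1CplFin.Setup
import Groth.Agent.CplFib6.Excellent
import Groth.Agent.PopescuLib.LocalCompletion
import Groth.Agent.FlatLoc6.GeomProp
import Groth.Agent.S2644
import Mathlib.RingTheory.Flat.Stability

/-!
# Completions of normal excellent local rings in a finite extension
-/

set_option autoImplicit false

namespace Groth.Agent.H1CplFin

universe u

open IsLocalRing TensorProduct

/-- The completion of an excellent normal local domain is a normal domain. -/
theorem normal_cpl (A : Type u) [CommRing A] [IsDomain A] [IsLocalRing A] [IsIntegrallyClosed A]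
    (hA : EGA4.IsExcellent A) : IsDomain (EGA4.Cpl A) ∧ IsIntegrallyClosed (EGA4.Cpl A) := by
  haveI := hA.1
  have hreg := PopescuLib.isRegularHom_completion_of_isGRing hA.2.2.1
  have hgn : EGA4.HasGeomNormalFormalFibres A := fun p _ k' _ _ hk' => by
    haveI := (hreg.2 p).2 k' hk'
    exact FlatLoc6.isNormalRing_of_isRegularRing _
  have hn : EGA4.IsNormalRing A := fun p _ =>
    ⟨IsLocalization.isDomain_localization p.primeCompl_le_nonZeroDivisors,
      isIntegrallyClosed_of_isLocalization (Localization.AtPrime p) p.primeCompl p.primeCompl_le_nonZeroDivisors⟩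
  have hc := (S2644.result A hgn).1 hn
  haveI := FlatLoc6.isLocalRing_cpl A
  obtain ⟨_, _⟩ := hc (maximalIdeal (EGA4.Cpl A))
  let e : EGA4.Cpl A ≃ₐ[EGA4.Cpl A] Localization.AtPrime (maximalIdeal (EGA4.Cpl A)) :=
    IsLocalization.atUnits (EGA4.Cpl A) (maximalIdeal (EGA4.Cpl A)).primeCompl fun x hx =>
      not_not.1 fun h => hx ((mem_maximalIdeal x).2 h)
  exact ⟨e.toRingEquiv.toMulEquiv.isDomain _, IsIntegrallyClosed.of_equiv e.symm.toRingEquiv⟩

/-- An integral element of the fraction field of a normal subring lies in it. -/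
theorem mem_range_of_mul_eq {B D : Type u} [CommRing B] [IsDomain B] [IsIntegrallyClosed B] [CommRing D]
    [IsDomain D] [Algebra B D] (hinj : Function.Injective (algebraMap B D)) (x : D) (hx : IsIntegral B x)
    (a b : B) (hb : b ≠ 0) (h : x * algebraMap B D b = algebraMap B D a) : ∃ y, algebraMap B D y = x := by
  let f : D →ₐ[B] FractionRing D := IsScalarTower.toAlgHom B D (FractionRing D)
  let g : FractionRing B →ₐ[B] FractionRing D :=
    IsFractionRing.liftAlgHom (g := Algebra.ofId B (FractionRing D)) (by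
      show Function.Injective (algebraMap B (FractionRing D))
      rw [IsScalarTower.algebraMap_eq B D (FractionRing D)]
      exact (IsFractionRing.injective D (FractionRing D)).comp hinj)
  let q : FractionRing B := algebraMap B _ a / algebraMap B _ b
  have hb' : algebraMap B (FractionRing B) b ≠ 0 := (map_ne_zero_iff _ (IsFractionRing.injective B _)).2 hb
  have hq : g q = f x := by
    have h1 : g q * g (algebraMap B _ b) = f x * g (algebraMap B _ b) := by
      rw [← map_mul, div_mul_cancel₀ _ hb', AlgHom.commutes, AlgHom.commutes, ← f.commutes b, ← map_mul, h,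
        f.commutes]
    exact mul_right_cancel₀ ((map_ne_zero_iff g g.toRingHom.injective).2 hb') h1
  have hqi : IsIntegral B q := (isIntegral_algHom_iff g g.toRingHom.injective).1 (hq ▸ hx.map f)
  obtain ⟨y, hy⟩ := IsIntegrallyClosed.isIntegral_iff.1 hqi
  refine ⟨y, IsFractionRing.injective D (FractionRing D) ?_⟩
  rw [← IsScalarTower.algebraMap_apply, ← g.commutes y, hy, hq]
  rfl

variable {R C A : Type u} [CommRing R] [CommRing C] [CommRing A] [IsLocalRing R] [IsNoetherianRing R]
  [IsLocalRing A] [Algebra R C] [Module.Finite R C] [Algebra R A] [Algebra C A] [IsScalarTower R C A]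
  [IsLocalHom (algebraMap R A)]

/-- The completion of the base injects in the completion of `A`. -/
theorem injective_of_embedding (N : Submonoid C) [IsLocalization N A] [IsDomain (EGA4.Cpl R)]
    {ι : Type u} [Finite ι] (j : C →ₗ[R] (ι → R)) (hj : Function.Injective j) (g : EGA4.Cpl R →+* EGA4.Cpl A)
    (hg : ∀ r, g (algebraMap R (EGA4.Cpl R) r) = algebraMap A (EGA4.Cpl A) (algebraMap R A r)) :
    Function.Injective g := by
  classical
  haveI : Fintype ι := Fintype.ofFinite ι
  haveI := isNoetherianRing_of_atPrime R (C := C) (A := A) N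
  haveI := FlatLoc6.isLocalRing_cpl A
  haveI := FlatLoc6.isNoetherianRing_cpl A
  haveI := FlatLoc6.faithfullyFlat_cpl A
  haveI := FlatLoc6.faithfullyFlat_cpl R
  haveI : Module.Flat C A := IsLocalization.flat A N
  haveI : Module.Flat C (EGA4.Cpl A) := Module.Flat.trans C A (EGA4.Cpl A)
  letI : Algebra (EGA4.Cpl R) (EGA4.Cpl A) := g.toAlgebra
  haveI : IsScalarTower R (EGA4.Cpl R) (EGA4.Cpl A) := IsScalarTower.of_algebraMap_eq fun r => by
    rw [IsScalarTower.algebraMap_apply R A (EGA4.Cpl A)]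
    exact (hg r).symm
  obtain ⟨hle, hdense⟩ : (maximalIdeal R).map (algebraMap R (EGA4.Cpl A)) ≤ maximalIdeal (EGA4.Cpl A) ∧
      ∀ d : EGA4.Cpl A, ∃ c : C,
        d - algebraMap C (EGA4.Cpl A) c ∈ (maximalIdeal R).map (algebraMap R (EGA4.Cpl A)) :=
    ⟨map_le_cpl, exists_dense N⟩
  obtain ⟨_, _, hsurj, _⟩ := CplFib6.exists_flat_surjective R C (EGA4.Cpl A) hle hdense
  refine (injective_iff_map_eq_zero g).2 fun k hk => by_contra fun hk0 => ?_
  let B := C ⊗[R] EGA4.Cpl R
  have hreg : IsSMulRegular B ((1 : C) ⊗ₜ[R] k) := by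
    intro x y hxy
    let Φ : B →ₗ[R] (ι → EGA4.Cpl R) :=
      (TensorProduct.piScalarRight R R (EGA4.Cpl R) ι).toLinearMap ∘ₗ j.lTensor (EGA4.Cpl R) ∘ₗ
        (TensorProduct.comm R C (EGA4.Cpl R)).toLinearMap
    have hΦ : Function.Injective Φ := (TensorProduct.piScalarRight R R (EGA4.Cpl R) ι).injective.comp
      ((Module.Flat.lTensor_preserves_injective_linearMap j hj).comp (TensorProduct.comm R C (EGA4.Cpl R)).injective)
    have hmul : ∀ z : B, Φ ((1 : C) ⊗ₜ[R] k * z) = fun i => k * Φ z i := fun z => by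
      induction z using TensorProduct.induction_on with
      | zero => funext i; simp
      | tmul c w =>
        funext i
        rw [Algebra.TensorProduct.tmul_mul_tmul, one_mul]
        show j c i • (k * w) = k * (j c i • w)
        rw [mul_smul_comm]
      | add a b ha hb => funext i; simp [mul_add, map_add, congrFun ha i, congrFun hb i]
    refine hΦ (funext fun i => mul_left_cancel₀ hk0 ?_)
    have h' := congrFun (congrArg Φ (show (1 : C) ⊗ₜ[R] k * x = (1 : C) ⊗ₜ[R] k * y from hxy)) i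
    rwa [hmul, hmul] at h'
  have hz : algebraMap B (EGA4.Cpl A) ((1 : C) ⊗ₜ[R] k) = 0 := by
    have h1 : (1 : C) ⊗ₜ[R] k = Algebra.TensorProduct.includeRight k := rfl
    rw [← hk, h1]
    exact RingHom.congr_fun (cplHom_unique ((algebraMap B (EGA4.Cpl A)).comp
      Algebra.TensorProduct.includeRight.toRingHom) g (fun r => by
        show algebraMap B (EGA4.Cpl A) (Algebra.TensorProduct.includeRight (algebraMap R (EGA4.Cpl R) r)) = _
        rw [AlgHom.commutes, IsScalarTower.algebraMap_apply R C B, ← IsScalarTower.algebraMap_apply C B (EGA4.Cpl A),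
          IsScalarTower.algebraMap_apply C A (EGA4.Cpl A), ← IsScalarTower.algebraMap_apply R C A]) hg) k
  have hS := IsSMulRegular.of_flat (S := EGA4.Cpl A) hreg
  rw [hz] at hS
  exact zero_ne_one (α := EGA4.Cpl A) (hS (by simp : (0 : EGA4.Cpl A) • (0 : EGA4.Cpl A) = (0 : EGA4.Cpl A) • 1))


theorem isIntegral_cpl (N : Submonoid C) [IsLocalization N A] {D : Type u} [CommRing D]
    [Algebra D (EGA4.Cpl A)] [Algebra R D] [IsScalarTower R D (EGA4.Cpl A)]
    (g : EGA4.Cpl R →+* D)
    (hg : ∀ r, g (algebraMap R (EGA4.Cpl R) r) = algebraMap R D r)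
    (x : EGA4.Cpl A) : IsIntegral D x := by
  haveI := isNoetherianRing_of_atPrime R (C := C) (A := A) N
  obtain ⟨n, r, c, hx⟩ := exists_span N ((algebraMap D (EGA4.Cpl A)).comp g) (fun r => by
    rw [RingHom.comp_apply, hg, ← IsScalarTower.algebraMap_apply, IsScalarTower.algebraMap_apply R A (EGA4.Cpl A)]) x
  rw [hx]
  refine IsIntegral.sum _ fun i _ => IsIntegral.mul isIntegral_algebraMap ?_
  haveI : Algebra.IsIntegral R C := Algebra.IsIntegral.of_finite R C
  rw [← IsScalarTower.algebraMap_apply C A (EGA4.Cpl A)]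
  exact ((Algebra.IsIntegral.isIntegral (R := R) (c i)).map (IsScalarTower.toAlgHom R C (EGA4.Cpl A))).tower_top

/-- The data of a normal excellent local ring `T` between `R` and `A`, dominated by `A`. -/
theorem injective_and_integral (N : Submonoid C) [IsLocalization N A] [IsDomain (EGA4.Cpl R)]
    {ι : Type u} [Finite ι] (j : C →ₗ[R] (ι → R)) (hj : Function.Injective j)
    {CT T : Type u} [CommRing CT] [CommRing T] [IsLocalRing T] [Algebra R CT] [Module.Finite R CT] [Algebra R T]
    [Algebra CT T] [IsScalarTower R CT T] [IsLocalHom (algebraMap R T)] (NT : Submonoid CT) [IsLocalization NT T]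
    [IsDomain (EGA4.Cpl T)]
    [Algebra T A] [IsScalarTower R T A] [Algebra (EGA4.Cpl T) (EGA4.Cpl A)]
    (hcT : ∀ t : T, algebraMap (EGA4.Cpl T) (EGA4.Cpl A) (algebraMap T (EGA4.Cpl T) t) =
      algebraMap A (EGA4.Cpl A) (algebraMap T A t)) :
    Function.Injective (algebraMap (EGA4.Cpl T) (EGA4.Cpl A)) ∧
      ∀ x : EGA4.Cpl A, IsIntegral (EGA4.Cpl T) x := by
  haveI := isNoetherianRing_of_atPrime R (C := C) (A := A) N
  haveI := isNoetherianRing_of_atPrime R (C := CT) (A := T) NT
  haveI : IsScalarTower R (EGA4.Cpl T) (EGA4.Cpl A) := IsScalarTower.of_algebraMap_eq fun r => by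
    rw [IsScalarTower.algebraMap_apply R T (EGA4.Cpl T), hcT, ← IsScalarTower.algebraMap_apply R T A,
      ← IsScalarTower.algebraMap_apply]
  obtain ⟨_, _⟩ := CplFib6.exists_cplMap R T
  have hg₁ : ∀ r, algebraMap (EGA4.Cpl R) (EGA4.Cpl T) (algebraMap R (EGA4.Cpl R) r) = algebraMap R (EGA4.Cpl T) r :=
    fun r => (IsScalarTower.algebraMap_apply R (EGA4.Cpl R) (EGA4.Cpl T) r).symm
  let g : EGA4.Cpl R →+* EGA4.Cpl A :=
    (algebraMap (EGA4.Cpl T) (EGA4.Cpl A)).comp (algebraMap (EGA4.Cpl R) (EGA4.Cpl T))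
  have hg : ∀ r, g (algebraMap R (EGA4.Cpl R) r) = algebraMap A (EGA4.Cpl A) (algebraMap R A r) := fun r => by
    show algebraMap (EGA4.Cpl T) (EGA4.Cpl A) _ = _
    rw [hg₁, ← IsScalarTower.algebraMap_apply, IsScalarTower.algebraMap_apply R A (EGA4.Cpl A)]
  have hginj := injective_of_embedding N j hj g hg
  refine ⟨(injective_iff_map_eq_zero _).2 fun y hy => by_contra fun hy0 => ?_,
    isIntegral_cpl (R := R) N _ hg₁⟩
  have hyi : IsIntegral (EGA4.Cpl R) y := by
    obtain ⟨n, r, c, hy'⟩ := exists_span (R := R) (C := CT) (A := T) NT (algebraMap (EGA4.Cpl R) (EGA4.Cpl T))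
      (fun r => by rw [hg₁, IsScalarTower.algebraMap_apply R T (EGA4.Cpl T)]) y
    rw [hy']
    refine IsIntegral.sum _ fun i _ => IsIntegral.mul isIntegral_algebraMap ?_
    haveI : Algebra.IsIntegral R CT := Algebra.IsIntegral.of_finite R CT
    rw [← IsScalarTower.algebraMap_apply CT T (EGA4.Cpl T)]
    exact ((Algebra.IsIntegral.isIntegral (R := R) (c i)).map (IsScalarTower.toAlgHom R CT (EGA4.Cpl T))).tower_top
  obtain ⟨r, hr0, w, hw⟩ := hyi.isAlgebraic.exists_nonzero_dvd (mem_nonZeroDivisors_of_ne_zero hy0)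
  refine hr0 (hginj ?_)
  rw [map_zero]
  show algebraMap (EGA4.Cpl T) (EGA4.Cpl A) (algebraMap (EGA4.Cpl R) (EGA4.Cpl T) r) = 0
  rw [hw, map_mul, hy, zero_mul]

/-- An element of `A` which is a fraction of `T` lies in `T`. -/
theorem exists_eq_of_mul_eq (N : Submonoid C) [IsLocalization N A] [IsDomain (EGA4.Cpl R)] [IsDomain (EGA4.Cpl A)]
    {ι : Type u} [Finite ι] (j : C →ₗ[R] (ι → R)) (hj : Function.Injective j)
    {CT T : Type u} [CommRing CT] [CommRing T] [IsLocalRing T] [Algebra R CT] [Module.Finite R CT] [Algebra R T]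
    [Algebra CT T] [IsScalarTower R CT T] [IsLocalHom (algebraMap R T)] (NT : Submonoid CT) [IsLocalization NT T]
    [IsDomain (EGA4.Cpl T)] [IsIntegrallyClosed (EGA4.Cpl T)] [IsDomain A]
    [Algebra T A] [IsScalarTower R T A] [IsLocalHom (algebraMap T A)]
    (hTA : Function.Injective (algebraMap T A))
    (z : A) (a b : T) (hb : b ≠ 0) (h : z * algebraMap T A b = algebraMap T A a) :
    ∃ t, algebraMap T A t = z := by
  haveI := isNoetherianRing_of_atPrime R (C := C) (A := A) N
  haveI := isNoetherianRing_of_atPrime R (C := CT) (A := T) NT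
  haveI := FlatLoc6.faithfullyFlat_cpl T
  obtain ⟨_, _⟩ := CplFib6.exists_cplMap T A
  have hcT : ∀ t : T, algebraMap (EGA4.Cpl T) (EGA4.Cpl A) (algebraMap T (EGA4.Cpl T) t) =
      algebraMap A (EGA4.Cpl A) (algebraMap T A t) := fun t => by
    rw [← IsScalarTower.algebraMap_apply, ← IsScalarTower.algebraMap_apply]
  obtain ⟨hinj, hint⟩ := injective_and_integral N j hj NT hcT
  have hιb : algebraMap T (EGA4.Cpl T) b ≠ 0 :=
    (map_ne_zero_iff _ (FaithfulSMul.algebraMap_injective T (EGA4.Cpl T))).2 hb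
  obtain ⟨y, hy⟩ := mem_range_of_mul_eq hinj (algebraMap A (EGA4.Cpl A) z) (hint _)
    (algebraMap T (EGA4.Cpl T) a) _ hιb
    (by rw [hcT, hcT, ← map_mul, h])
  have h1 : algebraMap T (EGA4.Cpl T) a ∈ Ideal.map (algebraMap T (EGA4.Cpl T)) (Ideal.span {b}) := by
    rw [Ideal.map_span, Set.image_singleton, Ideal.mem_span_singleton']
    exact ⟨y, hinj (by rw [map_mul, hy, hcT, hcT, ← map_mul, h])⟩
  rw [← Ideal.mem_comap, Ideal.comap_map_eq_self_of_faithfullyFlat, Ideal.mem_span_singleton'] at h1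
  obtain ⟨t, rfl⟩ := h1
  refine ⟨t, mul_right_cancel₀ ((map_ne_zero_iff _ hTA).2 hb) ?_⟩
  rw [h, map_mul]

/-- If the completion of `A` is made of fractions of the completion of `T`, the two completions coincide. -/
theorem bijective_cpl (N : Submonoid C) [IsLocalization N A] [IsDomain (EGA4.Cpl R)] [IsDomain (EGA4.Cpl A)]
    {ι : Type u} [Finite ι] (j : C →ₗ[R] (ι → R)) (hj : Function.Injective j)
    {CT T : Type u} [CommRing CT] [CommRing T] [IsLocalRing T] [Algebra R CT] [Module.Finite R CT] [Algebra R T]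
    [Algebra CT T] [IsScalarTower R CT T] [IsLocalHom (algebraMap R T)] (NT : Submonoid CT) [IsLocalization NT T]
    [IsDomain (EGA4.Cpl T)] [IsIntegrallyClosed (EGA4.Cpl T)]
    [Algebra T A] [IsScalarTower R T A] [Algebra (EGA4.Cpl T) (EGA4.Cpl A)]
    (hcT : ∀ t : T, algebraMap (EGA4.Cpl T) (EGA4.Cpl A) (algebraMap T (EGA4.Cpl T) t) =
      algebraMap A (EGA4.Cpl A) (algebraMap T A t))
    (hfrac : ∀ c : C, ∃ a b : EGA4.Cpl T, algebraMap (EGA4.Cpl T) (EGA4.Cpl A) b ≠ 0 ∧
      algebraMap A (EGA4.Cpl A) (algebraMap C A c) * algebraMap (EGA4.Cpl T) (EGA4.Cpl A) b =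
        algebraMap (EGA4.Cpl T) (EGA4.Cpl A) a) :
    Function.Bijective (algebraMap (EGA4.Cpl T) (EGA4.Cpl A)) := by
  classical
  haveI := isNoetherianRing_of_atPrime R (C := C) (A := A) N
  obtain ⟨hinj, hint⟩ := injective_and_integral N j hj NT hcT
  refine ⟨hinj, fun x => ?_⟩
  obtain ⟨_, _⟩ := CplFib6.exists_cplMap R T
  let g : EGA4.Cpl R →+* EGA4.Cpl A :=
    (algebraMap (EGA4.Cpl T) (EGA4.Cpl A)).comp (algebraMap (EGA4.Cpl R) (EGA4.Cpl T))
  obtain ⟨n, r, c, hx⟩ := exists_span N g (fun r => by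
    show algebraMap (EGA4.Cpl T) (EGA4.Cpl A) _ = _
    rw [← IsScalarTower.algebraMap_apply R (EGA4.Cpl R) (EGA4.Cpl T),
      IsScalarTower.algebraMap_apply R T (EGA4.Cpl T), hcT, ← IsScalarTower.algebraMap_apply R T A]) x
  choose a b hb hab using fun i => hfrac (c i)
  have hD : (∏ i, b i) ≠ 0 := Finset.prod_ne_zero_iff.2 fun i _ h => hb i (by rw [h, map_zero])
  refine mem_range_of_mul_eq hinj x (hint x) (∑ i, algebraMap (EGA4.Cpl R) (EGA4.Cpl T) (r i) *
    ((∏ k ∈ Finset.univ.erase i, b k) * a i)) _ hD ?_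
  rw [hx, Finset.sum_mul, map_sum]
  refine Finset.sum_congr rfl fun i _ => ?_
  rw [← Finset.prod_erase_mul _ _ (Finset.mem_univ i), map_mul, map_mul, map_mul, ← hab i]
  simp only [g, RingHom.comp_apply]
  ring

/-- The integral closure in a finite separable extension embeds in a free module. -/
theorem exists_embedding (R K Ω : Type u) [CommRing R] [IsDomain R] [IsIntegrallyClosed R] [Field K] [Field Ω]
    [Algebra R K] [IsFractionRing R K] [Algebra K Ω] [Algebra R Ω] [IsScalarTower R K Ω]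
    [FiniteDimensional K Ω] [Algebra.IsSeparable K Ω] :
    ∃ (ι : Type u) (_ : Finite ι) (j : (integralClosure R Ω) →ₗ[R] (ι → R)), Function.Injective j := by
  classical
  obtain ⟨s, b, hb⟩ := FiniteDimensional.exists_is_basis_integral R K Ω
  let b' := (Algebra.traceForm K Ω).dualBasis (traceForm_nondegenerate K Ω) b
  have hli : LinearIndependent R b' := b'.linearIndependent.restrict_scalars (by
    intro x y h
    simpa [Algebra.smul_def, IsFractionRing.injective R K |>.eq_iff] using h)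
  have hle := IsIntegralClosure.range_le_span_dualBasis (integralClosure R Ω) b hb
  let f : integralClosure R Ω →ₗ[R] Submodule.span R (Set.range b') :=
    (Submodule.inclusion hle).comp
      ((Algebra.linearMap (integralClosure R Ω) Ω).restrictScalars R).rangeRestrict
  have hf : Function.Injective f := fun x y h => Subtype.ext (congrArg (fun w : Submodule.span R (Set.range b') => (w : Ω)) h)
  exact ⟨_, inferInstance, (Module.Basis.span hli).equivFun.toLinearMap ∘ₗ f,
    (Module.Basis.span hli).equivFun.injective.comp hf⟩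

section Unramified

variable {R : Type u} [CommRing R] [IsLocalRing R]
variable {T A : Type u} [CommRing T] [CommRing A] [IsLocalRing T] [IsLocalRing A] [Algebra T A]
  [Algebra (EGA4.Cpl T) (EGA4.Cpl A)]
  (hcT : ∀ t : T, algebraMap (EGA4.Cpl T) (EGA4.Cpl A) (algebraMap T (EGA4.Cpl T) t) =
    algebraMap A (EGA4.Cpl A) (algebraMap T A t))

include hcT in
omit [IsLocalRing R] in
/-- Fractions: if `r c` is in the algebra generated by a set of fractions, `c` is a fraction. -/
theorem exists_frac [Algebra R T] [Algebra R A] [IsScalarTower R T A] [IsDomain (EGA4.Cpl A)] [IsNoetherianRing A]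
    (r : R) (hr : r ≠ 0) (hRA : Function.Injective (algebraMap R A)) (x : A) (G : Set A)
    (hG : ∀ y ∈ G, ∃ a b : EGA4.Cpl T, algebraMap (EGA4.Cpl T) (EGA4.Cpl A) b ≠ 0 ∧
      algebraMap A (EGA4.Cpl A) y * algebraMap (EGA4.Cpl T) (EGA4.Cpl A) b = algebraMap (EGA4.Cpl T) (EGA4.Cpl A) a)
    (hx : algebraMap R A r * x ∈ Algebra.adjoin R G) :
    ∃ a b : EGA4.Cpl T, algebraMap (EGA4.Cpl T) (EGA4.Cpl A) b ≠ 0 ∧
      algebraMap A (EGA4.Cpl A) x * algebraMap (EGA4.Cpl T) (EGA4.Cpl A) b =
        algebraMap (EGA4.Cpl T) (EGA4.Cpl A) a := by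
  haveI := FlatLoc6.faithfullyFlat_cpl A
  have hR : ∀ s : R, algebraMap (EGA4.Cpl T) (EGA4.Cpl A) (algebraMap T (EGA4.Cpl T) (algebraMap R T s)) =
      algebraMap A (EGA4.Cpl A) (algebraMap R A s) := fun s => by
    rw [hcT, ← IsScalarTower.algebraMap_apply R T A]
  have key : ∀ y ∈ Algebra.adjoin R G, ∃ a b : EGA4.Cpl T, algebraMap (EGA4.Cpl T) (EGA4.Cpl A) b ≠ 0 ∧
      algebraMap A (EGA4.Cpl A) y * algebraMap (EGA4.Cpl T) (EGA4.Cpl A) b =
        algebraMap (EGA4.Cpl T) (EGA4.Cpl A) a := fun y hy => by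
    induction hy using Algebra.adjoin_induction with
    | mem y hy => exact hG y hy
    | algebraMap s => exact ⟨algebraMap T (EGA4.Cpl T) (algebraMap R T s), 1, by rw [map_one]; exact one_ne_zero, by rw [map_one, mul_one, hR]⟩
    | add y z _ _ hy hz =>
      obtain ⟨a, b, hb, h⟩ := hy
      obtain ⟨a', b', hb', h'⟩ := hz
      refine ⟨a * b' + a' * b, b * b', by rw [map_mul]; exact mul_ne_zero hb hb', ?_⟩
      rw [map_add, map_add, map_mul, map_mul, map_mul, ← h, ← h']
      ring
    | mul y z _ _ hy hz =>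
      obtain ⟨a, b, hb, h⟩ := hy
      obtain ⟨a', b', hb', h'⟩ := hz
      refine ⟨a * a', b * b', by rw [map_mul]; exact mul_ne_zero hb hb', ?_⟩
      rw [map_mul, map_mul, map_mul, ← h, ← h']
      ring
  obtain ⟨a, b, hb, h⟩ := key _ hx
  refine ⟨a, algebraMap T (EGA4.Cpl T) (algebraMap R T r) * b, ?_, ?_⟩
  · rw [map_mul, hR]
    exact mul_ne_zero ((map_ne_zero_iff _ (FaithfulSMul.algebraMap_injective A (EGA4.Cpl A))).2
      ((map_ne_zero_iff _ hRA).2 hr)) hb
  · rw [map_mul, hR, ← h, map_mul]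
    ring

include hcT in
/-- If the completions coincide, `A` is unramified over `T`. -/
theorem unramified_of_bijective_cpl [IsNoetherianRing T] [IsNoetherianRing A]
    [(maximalIdeal A).LiesOver (maximalIdeal T)]
    (hbij : Function.Bijective (algebraMap (EGA4.Cpl T) (EGA4.Cpl A))) :
    (maximalIdeal T).map (algebraMap T A) = maximalIdeal A ∧
      Module.Finite (T ⧸ maximalIdeal T) (A ⧸ maximalIdeal A) ∧
      Algebra.IsSeparable (T ⧸ maximalIdeal T) (A ⧸ maximalIdeal A) := by
  haveI := FlatLoc6.isLocalRing_cpl T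
  haveI := FlatLoc6.isLocalRing_cpl A
  haveI := FlatLoc6.faithfullyFlat_cpl A
  have hmT := AdicCompletion.maximalIdeal_eq_map_of_fg (IsNoetherian.noetherian (maximalIdeal T))
  have hmA := AdicCompletion.maximalIdeal_eq_map_of_fg (IsNoetherian.noetherian (maximalIdeal A))
  have hcomp : (algebraMap (EGA4.Cpl T) (EGA4.Cpl A)).comp (algebraMap T (EGA4.Cpl T)) =
      (algebraMap A (EGA4.Cpl A)).comp (algebraMap T A) := RingHom.ext hcT
  let e := RingEquiv.ofBijective _ hbij
  have he : (maximalIdeal (EGA4.Cpl T)).map (algebraMap (EGA4.Cpl T) (EGA4.Cpl A)) = maximalIdeal (EGA4.Cpl A) := by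
    refine eq_maximalIdeal ?_
    exact Ideal.map_isMaximal_of_equiv e
  have hmap : ((maximalIdeal T).map (algebraMap T A)).map (algebraMap A (EGA4.Cpl A)) =
      maximalIdeal (EGA4.Cpl A) := by
    rw [Ideal.map_map, ← hcomp, ← Ideal.map_map, ← hmT, he]
  have h1 : (maximalIdeal T).map (algebraMap T A) = maximalIdeal A := by
    rw [← Ideal.comap_map_eq_self_of_faithfullyFlat (B := EGA4.Cpl A) ((maximalIdeal T).map (algebraMap T A)),
      hmap, hmA, Ideal.comap_map_eq_self_of_faithfullyFlat]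
  have hsurj : Function.Surjective (algebraMap (T ⧸ maximalIdeal T) (A ⧸ maximalIdeal A)) := fun y => by
    obtain ⟨a, rfl⟩ := Ideal.Quotient.mk_surjective y
    obtain ⟨w, hw⟩ := hbij.2 (algebraMap A (EGA4.Cpl A) a)
    obtain ⟨t, ht⟩ := CplFib6.exists_sub_mem T w
    refine ⟨Ideal.Quotient.mk _ t, ?_⟩
    rw [Ideal.Quotient.algebraMap_mk_of_liesOver]
    refine (Ideal.Quotient.eq.2 ?_).symm
    have h2 := Ideal.mem_map_of_mem (algebraMap (EGA4.Cpl T) (EGA4.Cpl A)) ht
    rw [he, map_sub, hw, hcT, ← map_sub, hmA, ← Ideal.mem_comap, Ideal.comap_map_eq_self_of_faithfullyFlat] at h2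
    exact h2
  haveI : Module.Finite (T ⧸ maximalIdeal T) (A ⧸ maximalIdeal A) :=
    Module.Finite.of_surjective (Algebra.linearMap (T ⧸ maximalIdeal T) (A ⧸ maximalIdeal A)) hsurj
  letI := Ideal.Quotient.field (maximalIdeal T)
  refine ⟨h1, inferInstance, ⟨fun y => ?_⟩⟩
  obtain ⟨x, rfl⟩ := hsurj y
  exact isSeparable_algebraMap x

end Unramified

end Groth.Agent.H1CplFin
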