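import Groth.Agent.H1CplFin.Basic
import Mathlib.FieldTheory.IntermediateField.Algebraic
import Mathlib.RingTheory.Algebraic.Integral
import Mathlib.FieldTheory.SeparableClosure

/-!
# The integral closure in a compositum
-/

set_option autoImplicit false

namespace Groth.Agent.H1CplFin

universe u

open IsLocalRing

variable (R K L M Ω : Type u) [CommRing R] [IsDomain R] [IsIntegrallyClosed R] [IsNoetherianRing R]
  [Field K] [Field L] [Field M] [Field Ω]
  [Algebra R K] [IsFractionRing R K]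
  [Algebra K L] [Algebra K M] [Algebra K Ω] [Algebra L Ω] [Algebra M Ω]
  [IsScalarTower K L Ω] [IsScalarTower K M Ω]
  [FiniteDimensional K L] [FiniteDimensional K M] [Algebra.IsSeparable K L] [Algebra.IsSeparable K M]
  (hΩ : IntermediateField.adjoin K (Set.range (algebraMap L Ω) ∪ Set.range (algebraMap M Ω)) = ⊤)
  [Algebra R L] [Algebra R M] [Algebra R Ω] [IsScalarTower R K L] [IsScalarTower R K M] [IsScalarTower R K Ω]
  [IsScalarTower R L Ω] [IsScalarTower R M Ω]

include hΩ in
omit [IsDomain R] [IsIntegrallyClosed R] [IsNoetherianRing R] [IsFractionRing R K] [Algebra R K]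
  [Algebra R L] [Algebra R M] [Algebra R Ω] [IsScalarTower R K L] [IsScalarTower R K M] [IsScalarTower R K Ω]
  [IsScalarTower R L Ω] [IsScalarTower R M Ω] in
theorem finiteDimensional_compositum : FiniteDimensional K Ω ∧ Algebra.IsSeparable K Ω := by
  let l : IntermediateField K Ω := (IsScalarTower.toAlgHom K L Ω).fieldRange
  let m : IntermediateField K Ω := (IsScalarTower.toAlgHom K M Ω).fieldRange
  let el : L ≃ₐ[K] l := AlgEquiv.ofInjectiveField (IsScalarTower.toAlgHom K L Ω)
  let em : M ≃ₐ[K] m := AlgEquiv.ofInjectiveField (IsScalarTower.toAlgHom K M Ω)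
  haveI : FiniteDimensional K l := el.toLinearEquiv.finiteDimensional
  haveI : FiniteDimensional K m := em.toLinearEquiv.finiteDimensional
  haveI : Algebra.IsSeparable K l := AlgEquiv.Algebra.isSeparable el
  haveI : Algebra.IsSeparable K m := AlgEquiv.Algebra.isSeparable em
  haveI : Algebra.IsSeparable K ↥(l ⊔ m) := IntermediateField.isSeparable_sup K Ω l m
  have h : l ⊔ m = ⊤ := by
    rw [← top_le_iff, ← hΩ, IntermediateField.adjoin_le_iff]
    rintro x (⟨a, rfl⟩ | ⟨a, rfl⟩)
    · exact (le_sup_left : l ≤ l ⊔ m) ⟨a, rfl⟩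
    · exact (le_sup_right : m ≤ l ⊔ m) ⟨a, rfl⟩
  let e : ↥(l ⊔ m) ≃ₐ[K] Ω := (IntermediateField.equivOfEq h).trans IntermediateField.topEquiv
  exact ⟨e.toLinearEquiv.finiteDimensional, AlgEquiv.Algebra.isSeparable e⟩

include hΩ in
theorem finite_integralClosure : Module.Finite R (integralClosure R Ω) := by
  obtain ⟨_, _⟩ := finiteDimensional_compositum K L M Ω hΩ
  exact IsIntegralClosure.finite R K Ω (integralClosure R Ω)

include hΩ in
omit [IsIntegrallyClosed R] [IsNoetherianRing R] in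
/-- Up to denominators from `R`, the compositum is generated by integral elements of the two fields. -/
theorem exists_smul_mem_adjoin (z : Ω) :
    ∃ r : R, r ≠ 0 ∧ algebraMap R Ω r * z ∈ Algebra.adjoin R
      (algebraMap L Ω '' {s | IsIntegral R s} ∪ algebraMap M Ω '' {t | IsIntegral R t}) := by
  obtain ⟨_, _⟩ := finiteDimensional_compositum K L M Ω hΩ
  haveI : Algebra.IsAlgebraic R L := (IsFractionRing.comap_isAlgebraic_iff (A := R) (K := K) (C := L)).2 (Algebra.IsAlgebraic.of_finite K L)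
  haveI : Algebra.IsAlgebraic R M := (IsFractionRing.comap_isAlgebraic_iff (A := R) (K := K) (C := M)).2 (Algebra.IsAlgebraic.of_finite K M)
  set Z := Algebra.adjoin R (algebraMap L Ω '' {s | IsIntegral R s} ∪ algebraMap M Ω '' {t | IsIntegral R t})
  have hz : z ∈ (Algebra.adjoin K (Set.range (algebraMap L Ω) ∪ Set.range (algebraMap M Ω)) : Subalgebra K Ω) := by
    rw [← IntermediateField.adjoin_toSubalgebra, hΩ]
    trivial
  induction hz using Algebra.adjoin_induction with
  | mem y hy =>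
    rcases hy with ⟨l, rfl⟩ | ⟨l, rfl⟩
    · obtain ⟨r, hr, hint⟩ := (Algebra.IsAlgebraic.isAlgebraic (R := R) l).exists_integral_multiple
      refine ⟨r, hr, ?_⟩
      rw [IsScalarTower.algebraMap_apply R L Ω, ← map_mul, ← Algebra.smul_def]
      exact Algebra.subset_adjoin (Or.inl ⟨_, hint, rfl⟩)
    · obtain ⟨r, hr, hint⟩ := (Algebra.IsAlgebraic.isAlgebraic (R := R) l).exists_integral_multiple
      refine ⟨r, hr, ?_⟩
      rw [IsScalarTower.algebraMap_apply R M Ω, ← map_mul, ← Algebra.smul_def]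
      exact Algebra.subset_adjoin (Or.inr ⟨_, hint, rfl⟩)
  | algebraMap k =>
    obtain ⟨a, b, hb, rfl⟩ := IsFractionRing.div_surjective R k
    refine ⟨b, nonZeroDivisors.ne_zero hb, ?_⟩
    have hb0 : algebraMap R K b ≠ 0 := IsFractionRing.to_map_ne_zero_of_mem_nonZeroDivisors hb
    rw [IsScalarTower.algebraMap_apply R K Ω, ← map_mul, mul_div_cancel₀ _ hb0,
      ← IsScalarTower.algebraMap_apply]
    exact Subalgebra.algebraMap_mem _ _
  | add y w _ _ hy hw =>
    obtain ⟨r, hr, hy⟩ := hy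
    obtain ⟨s, hs, hw⟩ := hw
    refine ⟨r * s, mul_ne_zero hr hs, ?_⟩
    rw [map_mul, show algebraMap R Ω r * algebraMap R Ω s * (y + w) = algebraMap R Ω s * (algebraMap R Ω r * y) +
      algebraMap R Ω r * (algebraMap R Ω s * w) by ring]
    exact add_mem (mul_mem (Subalgebra.algebraMap_mem _ _) hy) (mul_mem (Subalgebra.algebraMap_mem _ _) hw)
  | mul y w _ _ hy hw =>
    obtain ⟨r, hr, hy⟩ := hy
    obtain ⟨s, hs, hw⟩ := hw
    refine ⟨r * s, mul_ne_zero hr hs, ?_⟩
    rw [map_mul, show algebraMap R Ω r * algebraMap R Ω s * (y * w) =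
      (algebraMap R Ω r * y) * (algebraMap R Ω s * w) by ring]
    exact mul_mem hy hw

variable (𝔪 : Ideal ↥(integralClosure R Ω)) (A : Subalgebra R Ω)
  (hA : ∀ z : Ω, z ∈ A ↔ ∃ a b : ↥(integralClosure R Ω), b ∉ 𝔪 ∧ z * (b : Ω) = (a : Ω))

omit [IsDomain R] [IsIntegrallyClosed R] [IsNoetherianRing R] in
include hA in
theorem le_of_hA [𝔪.IsMaximal] : integralClosure R Ω ≤ A := fun z hz => (hA z).2
  ⟨⟨z, hz⟩, 1, fun h => Ideal.IsMaximal.ne_top ‹_› ((Ideal.eq_top_iff_one _).2 h), by simp⟩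

omit [IsDomain R] [IsIntegrallyClosed R] [IsNoetherianRing R] in
include hA in
/-- `A` is the localization of the integral closure at `𝔪`. -/
theorem exists_isLocalization [𝔪.IsMaximal] :
    ∃ (_ : Algebra (integralClosure R Ω) A) (_ : IsScalarTower R (integralClosure R Ω) A),
      (∀ c : integralClosure R Ω, ((algebraMap (integralClosure R Ω) A c : A) : Ω) = (c : Ω)) ∧
      IsLocalization.AtPrime A 𝔪 := by
  letI : Algebra (integralClosure R Ω) A := (Subalgebra.inclusion (le_of_hA R Ω 𝔪 A hA)).toRingHom.toAlgebra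
  refine ⟨inferInstance, IsScalarTower.of_algebraMap_eq fun r => rfl, fun c => rfl, ?_⟩
  refine { map_units := fun y => ?_, surj := fun z => ?_, exists_of_eq := fun {x y} h => ⟨1, ?_⟩ }
  · have hy : (y.1 : Ω) ≠ 0 := fun h => y.2 (by rw [show y.1 = 0 from Subtype.ext h]; exact 𝔪.zero_mem)
    refine IsUnit.of_mul_eq_one ⟨(y.1 : Ω)⁻¹, (hA _).2 ⟨1, y.1, y.2, by simp [inv_mul_cancel₀ hy]⟩⟩ (Subtype.ext ?_)
    exact mul_inv_cancel₀ hy
  · obtain ⟨a, b, hb, h⟩ := (hA z).1 z.2
    exact ⟨(a, ⟨b, hb⟩), Subtype.ext h⟩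
  · have h' : (x : Ω) = y := congrArg (fun w : A => (w : Ω)) h
    rw [Subtype.ext h']

omit [IsIntegrallyClosed R] [IsNoetherianRing R] in
include hA in
theorem isLocalHom_toA [IsLocalRing R] [IsLocalRing A] [𝔪.IsMaximal] (hRΩ : Function.Injective (algebraMap R Ω)) :
    IsLocalHom (algebraMap R A) := by
  refine ⟨fun r hr => ?_⟩
  obtain ⟨_, _, _, _⟩ := exists_isLocalization R Ω 𝔪 A hA
  by_contra hru
  have hmax : 𝔪.comap (algebraMap R (integralClosure R Ω)) = maximalIdeal R :=
    IsLocalRing.eq_maximalIdeal (Ideal.isMaximal_comap_of_isIntegral_of_isMaximal 𝔪)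
  have hr' : algebraMap R (integralClosure R Ω) r ∈ 𝔪 := hmax.ge hru
  rw [IsScalarTower.algebraMap_apply R (integralClosure R Ω) A] at hr
  exact (IsLocalization.AtPrime.isUnit_to_map_iff A 𝔪 _).1 hr hr'

end Groth.Agent.H1CplFin
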